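import Cfsg.Agent.GWDihedral.Setting
import Cfsg.Agent.GWDihedral.Tops.Psl
import Cfsg.Agent.GWDihedral.Tops.Small
import Cfsg.Agent.GWDihedral.Tops.AltSeven
import Cfsg.Agent.FourGroupGW.Proper

/-!
GW dihedral, the proper subgroups containing a four-group: their tops, and lifting from the quotient by the odd core.
-/

set_option autoImplicit false
set_option linter.unusedSectionVars false
set_option linter.style.haveILetI false

namespace Cfsg.Lib.GWD

open Subgroup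
open Cfsg.Lib.GenDihedral (IsFour isFour_of_comm mul_self_of_two inv_of_two)
open Cfsg.Lib.GW (Core qmap qmap_eq qmap_eq_one exists_conj_of_cong core_le le_normalizer_core)

universe u

variable {G : Type u} [Group G] [Finite G]

/-- A group with an involution and order not divisible by four has a normal subgroup of index two. -/
theorem exists_normal_index_two {Z : Type*} [Group Z] [Finite Z] (h4 : ¬ 4 ∣ Nat.card Z) {t : Z}
    (ht : orderOf t = 2) : ∃ M : Subgroup Z, M.Normal ∧ M.index = 2 := by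
  classical
  letI := Fintype.ofFinite Z
  set f : Z →* ℤˣ := Equiv.Perm.sign.comp (MulAction.toPermHom Z Z)
  have ht1 : t ≠ 1 := fun e => by rw [e, orderOf_one] at ht; omega
  set p := MulAction.toPermHom Z Z t
  have hp : orderOf p = 2 := orderOf_eq_prime (by rw [pow_two, ← map_mul, mul_self_of_two ht, map_one]) fun e =>
    ht1 (by simpa [p] using Equiv.ext_iff.1 e 1)
  have hs : p.support = Finset.univ := by
    ext z
    simp [p, ht1]
  obtain ⟨n, hn⟩ := Equiv.Perm.cycleType_prime_order (σ := p) (by rw [hp]; exact Nat.prime_two)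
  have hcard := Equiv.Perm.sum_cycleType p
  rw [hn, hp, Multiset.sum_replicate, smul_eq_mul, hs, Finset.card_univ, ← Nat.card_eq_fintype_card] at hcard
  have hodd : Odd (n + 1) := Nat.odd_iff.2 (by rw [← hcard] at h4; omega)
  have hft : f t = -1 := by
    show Equiv.Perm.sign p = -1
    rw [Equiv.Perm.sign_of_cycleType, hn, hp, Multiset.sum_replicate, Multiset.card_replicate, smul_eq_mul]
    exact (Nat.odd_iff.2 (by obtain ⟨j, hj⟩ := hodd; omega) : Odd ((n + 1) * 2 + (n + 1))).neg_one_pow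
  refine ⟨f.ker, inferInstance, ?_⟩
  rw [Subgroup.index_ker]
  have : f.range = ⊤ := eq_top_iff.2 fun x _ => by
    rcases Int.units_eq_one_or x with rfl | rfl
    · exact one_mem _
    · exact ⟨t, hft⟩
  rw [this, card_top, Nat.card_eq_fintype_card]
  rfl

variable (hm : Minimal G) (V : Cfsg.Lib.GW.Frame G) {H : Subgroup G}
include hm

/-- `O` consists of the elements of odd order centralising `t`, and has index a power of two in `C`. -/
theorem Minimal.mem_O {x : G} : x ∈ V.O ↔ x * V.t = V.t * x ∧ Odd (orderOf x) := by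
  refine ⟨fun h => ⟨V.mem_C.1 (V.O_le h), Cfsg.Lib.GW.Frame.odd_orderOf V.odd_card_O h⟩, fun ⟨hc, ho⟩ => ?_⟩
  obtain ⟨P⟩ : Nonempty (Sylow 2 G) := inferInstance
  obtain ⟨m, hm4, hP⟩ := hm.sylow P
  obtain ⟨N, hN, hodd, k, hk⟩ := Cfsg.Agent.S0514.result P m (by omega) hP V.t V.t_order
  haveI := hN
  have hxC : x ∈ centralizer ({V.t} : Set G) := GenDihedral.mem_cent.2 hc
  refine ⟨⟨x, hxC⟩, Cfsg.Lib.Components.le_pPrimeCore (p := 2) (N := N) (Nat.coprime_two_right.2 hodd) ?_, rfl⟩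
  have h1 : orderOf (QuotientGroup.mk' N ⟨x, hxC⟩) ∣ orderOf x :=
    (orderOf_map_dvd _ _).trans (Subgroup.orderOf_mk x hxC).dvd
  have h2 := orderOf_dvd_natCard (QuotientGroup.mk' N ⟨x, hxC⟩)
  rw [← index_eq_card, hk] at h2
  exact (QuotientGroup.eq_one_iff _).1 (orderOf_eq_one_iff.1
    (Nat.eq_one_of_dvd_coprimes ((Nat.coprime_two_left.2 ho).pow_left k) h2 h1))

theorem Minimal.index_O : ∃ k, (V.O.subgroupOf V.C).index = 2 ^ k := by
  obtain ⟨P⟩ : Nonempty (Sylow 2 G) := inferInstance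
  obtain ⟨m, hm4, hP⟩ := hm.sylow P
  obtain ⟨N, hN, hodd, k, hk⟩ := Cfsg.Agent.S0514.result P m (by omega) hP V.t V.t_order
  haveI := hN
  have hle : N ≤ V.O.subgroupOf V.C := fun x hx =>
    mem_subgroupOf.2 ⟨x, Cfsg.Lib.Components.le_pPrimeCore (p := 2) (N := N) (Nat.coprime_two_right.2 hodd) hx, rfl⟩
  obtain ⟨j, -, hj⟩ := (Nat.dvd_prime_pow Nat.prime_two).1 (hk ▸ Subgroup.index_dvd_of_le hle)
  exact ⟨j, hj⟩

variable (hU : V.U ≤ H)
include hU

/-- The Sylow 2-subgroups of the quotient are dihedral. -/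
theorem Minimal.exists_sylow_q : ∃ (T : Sylow 2 (H ⧸ Cfsg.oddCore H)) (d : ℕ), 2 ≤ d ∧
    Nonempty ((T : Subgroup (H ⧸ Cfsg.oddCore H)) ≃* DihedralGroup d) := by
  haveI : Fact (Nat.Prime 2) := ⟨Nat.prime_two⟩
  obtain ⟨P⟩ : Nonempty (Sylow 2 H) := inferInstance
  set T := P.mapSurjective (QuotientGroup.mk'_surjective (Cfsg.oddCore H))
  obtain ⟨Q, hQ⟩ := (P.2.map H.subtype).exists_le_sylow
  obtain ⟨m, hm4, ⟨e⟩⟩ := hm.sylow Q
  haveI : NeZero m := ⟨by omega⟩
  have hPc : IsCyclic (P : Subgroup H) ∨ ∃ d, 2 ≤ d ∧ Nonempty ((P : Subgroup H) ≃* DihedralGroup d) := by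
    have eP := (P : Subgroup H).equivMapOfInjective _ H.subtype_injective
    rcases sub_of_equiv e hQ with hc | ⟨d, hd, ⟨g⟩⟩
    · haveI := hc
      exact Or.inl (isCyclic_of_injective eP.toMonoidHom eP.injective)
    · exact Or.inr ⟨d, hd, ⟨eP.trans g⟩⟩
  set f := (QuotientGroup.mk' (Cfsg.oddCore H)).comp (P : Subgroup H).subtype
  have er : f.range = (T : Subgroup (H ⧸ Cfsg.oddCore H)) := by
    rw [MonoidHom.range_comp, Subgroup.range_subtype]; rfl
  have hnc : ¬ IsCyclic (T : Subgroup (H ⧸ Cfsg.oddCore H)) := by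
    intro hc
    have F4 := V.four_q hU
    obtain ⟨T', hT'⟩ := (show IsPGroup 2 (Cfsg.Lib.GenDihedral.Vg (V.tb hU) (V.ub hU)) from
      IsPGroup.of_card (n := 2) (F4.card.trans rfl)).exists_le_sylow
    obtain ⟨g, rfl⟩ := MulAction.exists_smul_eq (H ⧸ Cfsg.oddCore H) T T'
    haveI : IsCyclic ((g • T : Sylow 2 (H ⧸ Cfsg.oddCore H)) : Subgroup (H ⧸ Cfsg.oddCore H)) :=
      isCyclic_of_injective (Sylow.equivSMul T g).symm.toMonoidHom (Sylow.equivSMul T g).symm.injective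
    haveI := isCyclic_of_le hT'
    obtain ⟨⟨y, hy⟩, hgen⟩ := IsCyclic.exists_generator (α := Cfsg.Lib.GenDihedral.Vg (V.tb hU) (V.ub hU))
    have h2 : orderOf y ≤ 2 := by
      rcases F4.mem_iff.1 hy with h | h | h | h <;> rw [h]
      · rw [orderOf_one]; omega
      · exact F4.z2.le
      · exact F4.t2.le
      · exact F4.s2.le
    have h4 := orderOf_eq_card_of_forall_mem_zpowers hgen
    rw [Subgroup.orderOf_mk, F4.card] at h4
    omega
  rcases hPc with hc | ⟨d, hd, ⟨g⟩⟩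
  · haveI := hc
    exact absurd (er ▸ isCyclic_of_surjective f.rangeRestrict f.rangeRestrict_surjective) hnc
  · haveI : NeZero d := ⟨by omega⟩
    rcases range_dihedral (f.comp g.symm.toMonoidHom) with hc | ⟨d', hd', ⟨g'⟩⟩
    · rw [range_comp_equiv, er] at hc
      exact absurd hc hnc
    · exact ⟨T, d', hd', ⟨(MulEquiv.subgroupCongr (by rw [range_comp_equiv, er])).trans g'⟩⟩

theorem Minimal.rankTwo_q : RankTwo (H ⧸ Cfsg.oddCore H) := by
  obtain ⟨T, d, hd, hT⟩ := hm.exists_sylow_q V hU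
  exact rankTwo_of_dihedral T hd hT

/-- A proper subgroup is a 2-group modulo its odd core or has a top. -/
theorem Minimal.cases (hH : H ≠ ⊤) : IsPGroup 2 (H ⧸ Cfsg.oddCore H) ∨
    ∃ L : Subgroup (H ⧸ Cfsg.oddCore H), TopData L ∧ ¬ 4 ∣ L.index ∧
      (Group.IsSolvable (H ⧸ Cfsg.oddCore H) ∨ (IsSimpleGroup L ∧ centralizer (L : Set (H ⧸ Cfsg.oddCore H)) = ⊥)) := by
  have hr := hm.rankTwo_q V hU
  rcases hm.shape H hH with h | ⟨P, hP, hK, hC, hi⟩ | ⟨N, hN, hD, h4, hC⟩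
  · exact Or.inl h
  · obtain ⟨L, hL, hL4⟩ := topData_of_klein hK hC hi
    refine Or.inr ⟨L, hL, hL4, Or.inl ?_⟩
    refine Cfsg.Lib.GenDihedral.solvable_ext P (Group.isSolvable_of_comm fun a b => Cfsg.Lib.GWFour.comm_of_klein a b) ?_
    refine Cfsg.Lib.GenDihedral.solvable_of_not_four ?_
    rw [← index_eq_card]
    omega
  · rcases hD with ⟨F, i, j, ho, h5, ⟨e⟩⟩ | ⟨⟨e⟩⟩
    · haveI : IsSimpleGroup (Matrix.ProjectiveSpecialLinearGroup (Fin 2) F) :=
        Matrix.ProjectiveSpecialLinearGroup.rank_two_simple (by rw [Nat.card_eq_fintype_card]; omega)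
      exact Or.inr ⟨N, topData_of_psl ho e hC hr, h4, Or.inr ⟨e.isSimpleGroup, hC⟩⟩
    · obtain ⟨hN', hT⟩ := topData_of_alt e hC hr
      subst hN'
      haveI : IsSimpleGroup (alternatingGroup (Fin 7)) := alternatingGroup.isSimpleGroup (by simp)
      exact Or.inr ⟨⊤, hT, h4, Or.inr ⟨e.isSimpleGroup, hC⟩⟩

omit hU

/-- Two commuting involutions lifting a four-group of the quotient. -/
theorem Minimal.exists_lift_four {a' b' : H ⧸ Cfsg.oddCore H} (F4 : IsFour a' b' (a' * b')) :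
    ∃ a b : H, qmap H a = a' ∧ qmap H b = b' ∧ orderOf (a : G) = 2 ∧ orderOf (b : G) = 2 ∧
      (a : G) * b = b * a := by
  have hlift : ∀ x' : H ⧸ Cfsg.oddCore H, orderOf x' = 2 → ∃ x : H, qmap H x = x' ∧ x * x = 1 := by
    intro x' hx'
    obtain ⟨y, rfl⟩ := QuotientGroup.mk'_surjective _ x'
    obtain ⟨e, m, hm', hy⟩ := Nat.exists_eq_pow_mul_and_not_dvd (orderOf_pos y).ne' 2 (by norm_num)
    obtain ⟨j, rfl⟩ : Odd m := Nat.not_even_iff_odd.1 fun h => hm' (even_iff_two_dvd.1 h)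
    refine ⟨y ^ (2 * j + 1), ?_, ?_⟩
    · rw [map_pow, pow_succ, pow_mul, pow_two, mul_self_of_two hx', one_pow, one_mul]
    · have h1 : (y ^ (2 * j + 1) * y ^ (2 * j + 1) : H) ∈ Cfsg.oddCore H := by
        rw [← QuotientGroup.eq_one_iff]
        show qmap H (y ^ (2 * j + 1) * y ^ (2 * j + 1)) = 1
        rw [map_mul, map_pow, pow_succ, pow_mul, pow_two, mul_self_of_two hx', one_pow, one_mul, mul_self_of_two hx']
      have ho := Cfsg.Lib.GW.Frame.odd_orderOf (Cfsg.Lib.GW.Frame.odd_card_core H)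
        (show (((y ^ (2 * j + 1) * y ^ (2 * j + 1)) : H) : G) ∈ Core H from ⟨_, h1, rfl⟩)
      rw [orderOf_coe] at ho
      have h2 : orderOf (y ^ (2 * j + 1) * y ^ (2 * j + 1)) ∣ 2 ^ e := orderOf_dvd_of_pow_eq_one (by
        rw [← pow_two, ← pow_mul, ← pow_mul, show (2 * j + 1) * (2 * 2 ^ e) = orderOf y * 2 by rw [hy]; ring,
          pow_mul, pow_orderOf_eq_one, one_pow])
      exact orderOf_eq_one_iff.1 (Nat.eq_one_of_dvd_coprimes ((Nat.coprime_two_left.2 ho).pow_left e) h2 dvd_rfl)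
  obtain ⟨a, ha, ha2⟩ := hlift a' F4.z2
  obtain ⟨b1, hb, hb2⟩ := hlift b' F4.t2
  set q := a * b1 with hq
  have hq' : qmap H q = a' * b' := by rw [hq, map_mul, ha, hb]
  obtain ⟨e, m, hm', hqo⟩ := Nat.exists_eq_pow_mul_and_not_dvd (orderOf_pos q).ne' 2 (by norm_num)
  obtain ⟨j, rfl⟩ : Odd m := Nat.not_even_iff_odd.1 fun h => hm' (even_iff_two_dvd.1 h)
  set c := q ^ (2 * j + 1) with hc
  have hc' : qmap H c = a' * b' := by
    rw [hc, map_pow, hq', pow_succ, pow_mul, pow_two, mul_self_of_two F4.s2, one_pow, one_mul]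
  have hcc : c * c = 1 := by
    have h1 : c * c ∈ Cfsg.oddCore H := by
      rw [← QuotientGroup.eq_one_iff]
      show qmap H (c * c) = 1
      rw [map_mul, hc', mul_self_of_two F4.s2]
    have ho := Cfsg.Lib.GW.Frame.odd_orderOf (Cfsg.Lib.GW.Frame.odd_card_core H)
      (show ((c * c : H) : G) ∈ Core H from ⟨_, h1, rfl⟩)
    rw [orderOf_coe] at ho
    have h2 : orderOf (c * c) ∣ 2 ^ e := orderOf_dvd_of_pow_eq_one (by
      rw [hc, ← pow_two, ← pow_mul, ← pow_mul, show (2 * j + 1) * (2 * 2 ^ e) = orderOf q * 2 by rw [hqo]; ring,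
        pow_mul, pow_orderOf_eq_one, one_pow])
    exact orderOf_eq_one_iff.1 (Nat.eq_one_of_dvd_coprimes ((Nat.coprime_two_left.2 ho).pow_left e) h2 dvd_rfl)
  have hai : a⁻¹ = a := inv_eq_of_mul_eq_one_left ha2
  have hac : a * c * a⁻¹ = c := by
    have h1 : a * q * a⁻¹ = q⁻¹ := by
      rw [hq, mul_inv_rev, hai, inv_eq_of_mul_eq_one_left hb2, ← mul_assoc, ha2, one_mul]
    rw [hc, ← conj_pow, h1, inv_pow]
    exact inv_eq_of_mul_eq_one_left hcc
  have hcomm : a * (a * c) = a * c * a := by rw [mul_assoc a c a, ← mul_inv_eq_iff_eq_mul.1 hac]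
  refine ⟨a, a * c, ha, by rw [map_mul, ha, hc', ← mul_assoc, mul_self_of_two F4.z2, one_mul], ?_, ?_,
    congrArg Subtype.val hcomm⟩
  · refine orderOf_eq_prime (by rw [pow_two, ← Subgroup.coe_mul, ha2]; rfl) fun e1 => ?_
    have : orderOf a' = 2 := F4.z2
    rw [← ha, show a = 1 from Subtype.ext e1, map_one, orderOf_one] at this
    omega
  · refine orderOf_eq_prime ?_ fun e1 => ?_
    · rw [pow_two, ← Subgroup.coe_mul, show a * c * (a * c) = a * (c * a) * c by group,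
        show c * a = a * c from (mul_inv_eq_iff_eq_mul.1 hac).symm, ← mul_assoc, ha2, one_mul, hcc]
      rfl
    · have : orderOf b' = 2 := F4.t2
      rw [← show qmap H (a * c) = b' by rw [map_mul, ha, hc', ← mul_assoc, mul_self_of_two F4.z2, one_mul],
        show a * c = 1 from Subtype.ext e1, map_one, orderOf_one] at this
      omega

omit hm

/-- A rotation modulo the odd core gives a rotation. -/
theorem exists_rot_lift {t u : G} (ht : t * t = 1) (hu : u * u = 1) (hc : t * u = u * t) (htH : t ∈ H) (huH : u ∈ H)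
    {h : H} (h1 : qmap H h * qmap H ⟨t, htH⟩ * (qmap H h)⁻¹ = qmap H ⟨u, huH⟩)
    (h2 : qmap H h * qmap H ⟨u, huH⟩ * (qmap H h)⁻¹ = qmap H ⟨t, htH⟩ * qmap H ⟨u, huH⟩) :
    ∃ g ∈ H, g * t * g⁻¹ = u ∧ g * u * g⁻¹ = t * u ∧ ∃ hg : g ∈ H, qmap H ⟨g, hg⟩ = qmap H h := by
  have hsq : ∀ y z : G, y * y = 1 → z * y * z⁻¹ * (z * y * z⁻¹) = 1 := fun y z hy => by
    rw [_root_.conj_mul, hy]; simp
  have hti : u⁻¹ = u := inv_eq_of_mul_eq_one_left hu
  obtain ⟨x, hx, hxt⟩ := exists_conj_of_cong (Cfsg.Lib.GW.Frame.odd_card_core H)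
    (a := (h : G) * t * (h : G)⁻¹) (b := u) (hsq t h ht) hu (by
      rw [← map_inv, ← map_mul, ← map_mul, qmap_eq] at h1
      simpa [hti, inv_eq_of_mul_eq_one_left ht, mul_assoc] using h1)
  set g1 := x⁻¹ * (h : G) with hg1
  have hg1H : g1 ∈ H := mul_mem (inv_mem (core_le H hx)) h.2
  have e1 : g1 * t * g1⁻¹ = u := by rw [hg1, ← hxt]; group
  have hx1 : qmap H ⟨g1, hg1H⟩ = qmap H h := by
    rw [qmap_eq]
    show (x⁻¹ * (h : G))⁻¹ * h ∈ Core H
    rw [show (x⁻¹ * (h : G))⁻¹ * h = (h : G)⁻¹ * x * h by group]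
    have := (mem_normalizer_iff.1 (le_normalizer_core H (inv_mem h.2)) x).1 hx
    simpa using this
  set b := g1 * u * g1⁻¹ with hb
  have hbc : b * u = u * b := by
    have h := congrArg (fun z => g1 * z * g1⁻¹) hc.symm
    simp only [← _root_.conj_mul] at h
    rw [e1] at h
    exact h
  have htu2 : t * u * (t * u) = 1 := by
    rw [show t * u * (t * u) = t * u * (u * t) by rw [hc], mul_assoc, ← mul_assoc u u t, hu, one_mul, ht]
  obtain ⟨y, hy, hyb⟩ := exists_conj_of_cong (N := Core H ⊓ centralizer {u})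
    ((Cfsg.Lib.GW.Frame.odd_card_core H).of_dvd_nat (card_dvd_of_le inf_le_left)) (a := b) (b := t * u)
    (by rw [hb]; exact hsq u g1 hu) htu2 (by
      refine Subgroup.mem_inf.2 ⟨?_, GenDihedral.mem_cent.2 ?_⟩
      · have h3 := h2
        rw [← hx1, ← map_inv, ← map_mul, ← map_mul, ← map_mul, qmap_eq] at h3
        have h4 : (g1 * u * g1⁻¹)⁻¹ * (t * u) ∈ Core H := h3
        rwa [← hb, inv_eq_of_mul_eq_one_left (by rw [hb]; exact hsq u g1 hu)] at h4
      · show Commute (b * (t * u)) u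
        exact Commute.mul_left hbc (Commute.mul_left hc (Commute.refl u)))
  obtain ⟨hyC, hyu⟩ := Subgroup.mem_inf.1 hy
  have hgH : y⁻¹ * g1 ∈ H := mul_mem (inv_mem (core_le H hyC)) hg1H
  refine ⟨y⁻¹ * g1, hgH, ?_, ?_, hgH, ?_⟩
  · calc y⁻¹ * g1 * t * (y⁻¹ * g1)⁻¹ = y⁻¹ * (g1 * t * g1⁻¹) * y := by group
      _ = u := by rw [e1, mul_assoc, ← GenDihedral.mem_cent.1 hyu, inv_mul_cancel_left]
  · rw [← hyb, hb]; group
  · rw [← hx1, qmap_eq]
    show (y⁻¹ * g1)⁻¹ * g1 ∈ Core H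
    rw [show (y⁻¹ * g1)⁻¹ * g1 = g1⁻¹ * y * g1 by group]
    have := (mem_normalizer_iff.1 (le_normalizer_core H (inv_mem hg1H)) y).1 hyC
    simpa using this

include hU

/-- In a subgroup with a top, `V` is rotated exactly when its image lies in `L`. -/
theorem rot_iff {L : Subgroup (H ⧸ Cfsg.oddCore H)} (D : TopData L) :
    Rot V H ↔ V.tb hU ∈ L ∧ V.ub hU ∈ L := by
  haveI := D.normal
  have F4 := V.four_q hU
  refine ⟨fun ⟨_, g, hg, hgt, hgu⟩ => ?_, fun ⟨ht, hu⟩ => ?_⟩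
  · have e1 : qmap H ⟨g, hg⟩ * V.tb hU * (qmap H ⟨g, hg⟩)⁻¹ = V.ub hU := by
      rw [Cfsg.Lib.GW.Frame.tb, Cfsg.Lib.GW.Frame.ub, ← map_inv, ← map_mul, ← map_mul]
      exact congrArg _ (Subtype.ext hgt)
    have e2 : qmap H ⟨g, hg⟩ * V.ub hU * (qmap H ⟨g, hg⟩)⁻¹ = V.tb hU * V.ub hU := by
      rw [Cfsg.Lib.GW.Frame.tb, Cfsg.Lib.GW.Frame.ub, ← map_inv, ← map_mul, ← map_mul, ← map_mul]
      exact congrArg _ (Subtype.ext hgu)
    have hiff : V.tb hU ∈ L → V.ub hU ∈ L := fun h => e1 ▸ Subgroup.Normal.conj_mem inferInstance _ h _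
    have ht : V.tb hU ∈ L := by
      by_contra h
      have hu : V.ub hU ∉ L := fun hu => h <| by
        have := Subgroup.Normal.conj_mem inferInstance _ hu (qmap H ⟨g, hg⟩)⁻¹
        rwa [← e1, show ∀ k x : H ⧸ Cfsg.oddCore H, k⁻¹ * (k * x * k⁻¹) * k⁻¹⁻¹ = x from fun k x => by group] at this
      have := D.coset _ _ F4.z2 F4.t2 h hu
      rw [← e2] at this
      have h' := Subgroup.Normal.conj_mem inferInstance _ this (qmap H ⟨g, hg⟩)⁻¹
      rw [show ∀ k x : H ⧸ Cfsg.oddCore H, k⁻¹ * (k * x * k⁻¹) * k⁻¹⁻¹ = x from fun k x => by group] at h'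
      exact hu h'
    exact ⟨ht, hiff ht⟩
  · obtain ⟨l, -, hl1, hl2⟩ := D.rot _ _ ht hu F4
    obtain ⟨h, rfl⟩ := QuotientGroup.mk'_surjective _ l
    obtain ⟨g, hg, hgt, hgu, -⟩ := exists_rot_lift (H := H) V.t_sq V.u_sq V.comm (V.U_le_iff.1 hU).1
      (V.U_le_iff.1 hU).2 (h := h) hl1 hl2
    exact ⟨hU, g, hg, hgt, hgu⟩

omit hU

/-- In a 2-group modulo the odd core no four-group is rotated. -/
theorem not_rot_of_two (h2 : IsPGroup 2 (H ⧸ Cfsg.oddCore H)) : ¬ Rot V H := by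
  rintro ⟨hU, g, hg, hgt, hgu⟩
  have F4 := V.four_q hU
  set k := qmap H ⟨g, hg⟩
  have e1 : k * V.tb hU * k⁻¹ = V.ub hU := by
    rw [Cfsg.Lib.GW.Frame.tb, Cfsg.Lib.GW.Frame.ub, ← map_inv, ← map_mul, ← map_mul]
    exact congrArg _ (Subtype.ext hgt)
  have e2 : k * V.ub hU * k⁻¹ = V.tb hU * V.ub hU := by
    rw [Cfsg.Lib.GW.Frame.tb, Cfsg.Lib.GW.Frame.ub, ← map_inv, ← map_mul, ← map_mul, ← map_mul]
    exact congrArg _ (Subtype.ext hgu)
  have e3 : k * (V.tb hU * V.ub hU) * k⁻¹ = V.tb hU := by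
    rw [← _root_.conj_mul, e1, e2, F4.comm, ← mul_assoc, mul_self_of_two F4.t2, one_mul]
  obtain ⟨j, hj⟩ := h2 k
  have h3 : Commute (k ^ 3) (V.tb hU) := mul_inv_eq_iff_eq_mul.1 (by
    rw [pow_three']
    calc k * k * k * V.tb hU * (k * k * k)⁻¹ = k * (k * (k * V.tb hU * k⁻¹) * k⁻¹) * k⁻¹ := by group
      _ = V.tb hU := by rw [e1, e2, e3])
  have hco : Nat.Coprime 3 (orderOf k) := by
    obtain ⟨i, -, hi⟩ := (Nat.dvd_prime_pow Nat.prime_two).1 (orderOf_dvd_of_pow_eq_one hj)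
    rw [hi]
    exact Nat.Coprime.pow_right i (by norm_num)
  obtain ⟨i, hi⟩ := exists_pow_eq_self_of_coprime hco
  have hk : Commute k (V.tb hU) := hi ▸ h3.pow_left i
  refine F4.ne_zt ?_
  rw [← e1, hk.eq, mul_inv_cancel_right]

end Cfsg.Lib.GWD
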