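import Cfsg.Agent.GWDihedral.Proper.Spec

/-!
GW dihedral, the top of a proper subgroup rotating a four-group: order formula, index, torus.
-/

set_option autoImplicit false
set_option linter.unusedSectionVars false
set_option linter.style.haveILetI false

namespace Cfsg.Lib.GWD

open Subgroup
open Cfsg.Lib.GenDihedral (IsFour isFour_of_comm mul_self_of_two inv_of_two)
open Cfsg.Lib.GW (Core qmap qmap_eq qmap_eq_one core_le le_normalizer_core card_image)
open Cfsg.Lib.GW.Frame (exists_fixed_mul_inverted)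

universe u

variable {G : Type u} [Group G] [Finite G]

/-- The 2-part of a product with an odd number. -/
theorem factorization_odd {m : ℕ} (hm : Odd m) : m.factorization 2 = 0 :=
  Nat.factorization_eq_zero_of_not_dvd fun h => Nat.not_even_iff_odd.2 hm (even_iff_two_dvd.2 h)

variable (hm : Minimal G) (V : Cfsg.Lib.GW.Frame G) {H : Subgroup G} (hU : V.U ≤ H)
include hm hU

/-- The centraliser of `t` in the quotient is a 2-group over the image of `H ⊓ O`, and is of odd index. -/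
theorem Minimal.cent_two_part {L : Subgroup (H ⧸ Cfsg.oddCore H)} (D : TopData L) (ht : V.tb hU ∈ L) :
    Odd (centralizer ({V.tb hU} : Set (H ⧸ Cfsg.oddCore H))).index ∧ ∃ k,
      Nat.card (centralizer ({V.tb hU} : Set (H ⧸ Cfsg.oddCore H))) =
        2 ^ k * Nat.card ↥(((H ⊓ V.O).subgroupOf H).map (qmap H)) := by
  haveI : Fact (Nat.Prime 2) := ⟨Nat.prime_two⟩
  haveI := D.normal
  constructor
  · obtain ⟨T, d, hd, ⟨e⟩⟩ := hm.exists_sylow_q V hU
    haveI : NeZero d := ⟨by omega⟩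
    obtain ⟨hcard, hpow⟩ := dihedral_data T hd ⟨e⟩
    obtain ⟨k, m, hk, hmo, hL⟩ := Cfsg.Lib.GenDihedral.card_inf_sylow T L
    obtain ⟨a, b, ha, hb, F4⟩ := D.four
    have h4 : 4 ∣ Nat.card L := by
      rw [← F4.card]
      refine card_dvd_of_le ?_
      show closure ({a, b} : Set (H ⧸ Cfsg.oddCore H)) ≤ L
      rw [closure_le]
      simp [Set.insert_subset_iff, ha, hb]
    have hk2 : 2 ≤ k := by
      by_contra hlt
      rw [hL] at h4
      obtain ⟨j, rfl⟩ := hmo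
      interval_cases k <;> omega
    have h2D : 2 < Nat.card ↥((((T : Subgroup (H ⧸ Cfsg.oddCore H)) ⊓ L).subgroupOf
        (T : Subgroup (H ⧸ Cfsg.oddCore H))).map e.toMonoidHom) := by
      rw [card_map_of_injective e.injective, Nat.card_congr (subgroupOfEquivOfLe inf_le_left).toEquiv, hk]
      calc 2 < 2 ^ 2 := by norm_num
        _ ≤ 2 ^ k := Nat.pow_le_pow_right two_pos hk2
    obtain ⟨y, hy, hye⟩ := center_mem hpow _ h2D
    have hy2 : orderOf y = 2 := by
      have hd2 : ((d / 2 : ℕ) : ZMod d) ≠ 0 := by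
        rw [Ne, ZMod.natCast_eq_zero_iff]
        intro h
        have := Nat.le_of_dvd (by omega) h
        omega
      rw [← MulEquiv.orderOf_eq e]
      refine orderOf_eq_prime ?_ fun h => ?_
      · show e y ^ 2 = 1
        obtain ⟨j, hj⟩ := hpow
        change e.toMonoidHom y ^ 2 = 1
        rw [hye, pow_two, DihedralGroup.r_mul_r, ← DihedralGroup.r_zero, DihedralGroup.r.injEq, ← Nat.cast_add,
          ZMod.natCast_eq_zero_iff, hj, pow_succ, Nat.mul_div_cancel _ two_pos, ← mul_two]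
      · change e.toMonoidHom y = 1 at h
        rw [hye, ← DihedralGroup.r_zero, DihedralGroup.r.injEq] at h
        exact hd2 h
    have hyc : (T : Subgroup (H ⧸ Cfsg.oddCore H)) ≤
        centralizer ({((y : (T : Subgroup (H ⧸ Cfsg.oddCore H))) : H ⧸ Cfsg.oddCore H)} : Set _) := by
      intro x hx
      refine GenDihedral.mem_cent.2 (congrArg Subtype.val (e.injective ?_ :
        (⟨x, hx⟩ : (T : Subgroup (H ⧸ Cfsg.oddCore H))) * y = y * ⟨x, hx⟩))
      rw [map_mul, map_mul, show e y = DihedralGroup.r ((d / 2 : ℕ) : ZMod d) from hye]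
      rcases e ⟨x, hx⟩ with i | i
      · rw [DihedralGroup.r_mul_r, DihedralGroup.r_mul_r, add_comm]
      · rw [DihedralGroup.sr_mul_r, DihedralGroup.r_mul_sr, DihedralGroup.sr.injEq]
        obtain ⟨j, hj⟩ := hpow
        have h0 : ((d / 2 : ℕ) : ZMod d) + ((d / 2 : ℕ) : ZMod d) = 0 := by
          rw [← Nat.cast_add, ZMod.natCast_eq_zero_iff, hj, pow_succ, Nat.mul_div_cancel _ two_pos, ← mul_two]
        linear_combination h0
    have hyL : ((y : (T : Subgroup (H ⧸ Cfsg.oddCore H))) : H ⧸ Cfsg.oddCore H) ∈ L := (mem_subgroupOf.1 hy).2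
    obtain ⟨l, -, hl⟩ := D.conj _ (V.tb hU) (by rw [orderOf_coe, hy2]) (V.four_q hU).z2 hyL ht
    have e2 : centralizer ({V.tb hU} : Set (H ⧸ Cfsg.oddCore H)) = (centralizer ({((y : (T : Subgroup
        (H ⧸ Cfsg.oddCore H))) : H ⧸ Cfsg.oddCore H)} : Set _)).map (MulAut.conj l).toMonoidHom := by
      ext x
      rw [Subgroup.mem_map_equiv, MulAut.conj_symm_apply, GenDihedral.mem_cent, GenDihedral.mem_cent, ← hl]
      constructor
      · intro h
        calc l⁻¹ * x * l * y = l⁻¹ * (x * (l * y * l⁻¹)) * l := by group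
          _ = y * (l⁻¹ * x * l) := by rw [h]; group
      · intro h
        calc x * (l * y * l⁻¹) = l * (l⁻¹ * x * l * y) * l⁻¹ := by group
          _ = l * y * l⁻¹ * x := by rw [h]; group
    refine Nat.not_even_iff_odd.1 fun h => T.not_dvd_index ?_
    rw [e2, show (Subgroup.map (MulAut.conj l).toMonoidHom _).index = _ from index_map_equiv _ (MulAut.conj l)] at h
    exact (even_iff_two_dvd.1 h).trans (Subgroup.index_dvd_of_le hyc)
  · obtain ⟨j, hj⟩ := hm.index_O V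
    have hCO : (H ⊓ V.O).relIndex (H ⊓ V.C) ∣ 2 ^ j := by
      haveI : (V.O.subgroupOf V.C).Normal := normal_subgroupOf_of_le_normalizer V.C_le_normalizer_O
      have h := Subgroup.relIndex_dvd_index_of_normal (V.O.subgroupOf V.C) ((H ⊓ V.C).subgroupOf V.C)
      rw [hj, relIndex_subgroupOf inf_le_right, ← inf_relIndex_right] at h
      rwa [show V.O ⊓ (H ⊓ V.C) = H ⊓ V.O by
        rw [inf_comm, inf_assoc, inf_eq_right.2 V.O_le]] at h
    obtain ⟨k, -, hk⟩ := (Nat.dvd_prime_pow Nat.prime_two).1 hCO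
    refine ⟨k, ?_⟩
    have e1 : Nat.card ↥(H ⊓ V.C) = 2 ^ k * Nat.card ↥(H ⊓ V.O) := by
      rw [← hk, ← relIndex_bot_left, ← relIndex_bot_left (H ⊓ V.O),
        ← relIndex_mul_relIndex ⊥ (H ⊓ V.O) (H ⊓ V.C) bot_le (inf_le_inf_left H V.O_le), mul_comm]
    have e2 : H ⊓ V.C ⊓ Core H = H ⊓ V.O ⊓ Core H := by
      refine le_antisymm (fun x hx => ?_) (inf_le_inf_right _ (inf_le_inf_left H V.O_le))
      obtain ⟨⟨hxH, hxC⟩, hxK⟩ := hx
      exact ⟨⟨hxH, (hm.mem_O V).2 ⟨V.mem_C.1 hxC,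
        Cfsg.Lib.GW.Frame.odd_orderOf (Cfsg.Lib.GW.Frame.odd_card_core H) hxK⟩⟩, hxK⟩
    have hC := card_image (H := H) (S := H ⊓ V.C) inf_le_left
    have hO := card_image (H := H) (S := H ⊓ V.O) inf_le_left
    rw [V.map_cent_t hU, e1, e2] at hC
    rw [hO] at hC
    refine Nat.eq_of_mul_eq_mul_left (Nat.card_pos (α := ↥(H ⊓ V.O ⊓ Core H))) ?_
    rw [← hC]; ring

/-- The elements of the torus inverted by `u`, with the fixed part they split the image of `H ⊓ O`. -/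
theorem Minimal.card_imgO {L : Subgroup (H ⧸ Cfsg.oddCore H)} (D : TopData L) {τ : H ⧸ Cfsg.oddCore H}
    (hτ : ∀ a ∈ L, Odd (orderOf a) → a * V.tb hU = V.tb hU * a → a ∈ zpowers τ) (hτo : Odd (orderOf τ))
    (hτt : τ * V.tb hU = V.tb hU * τ) :
    ∃ T : Subgroup (H ⧸ Cfsg.oddCore H),
      (∀ g, g ∈ T ↔ g ∈ zpowers τ ∧ V.ub hU * g * (V.ub hU)⁻¹ = g⁻¹) ∧
      Nat.card ↥(((H ⊓ V.O).subgroupOf H).map (qmap H)) =
        Nat.card ↥(((H ⊓ V.W).subgroupOf H).map (qmap H)) * Nat.card T := by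
  have F4 := V.four_q hU
  have hcz : ∀ a ∈ zpowers τ, ∀ b ∈ zpowers τ, a * b = b * a := by
    intro a ha b hb
    obtain ⟨i, rfl⟩ := mem_zpowers_iff.1 ha
    obtain ⟨j, rfl⟩ := mem_zpowers_iff.1 hb
    rw [← zpow_add, ← zpow_add, add_comm]
  let T : Subgroup (H ⧸ Cfsg.oddCore H) :=
    { carrier := {g | g ∈ zpowers τ ∧ V.ub hU * g * (V.ub hU)⁻¹ = g⁻¹}
      one_mem' := ⟨one_mem _, by simp⟩
      mul_mem' := fun {a b} ha hb => ⟨mul_mem ha.1 hb.1, by
        rw [← _root_.conj_mul, ha.2, hb.2, ← mul_inv_rev, hcz _ ha.1 _ hb.1]⟩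
      inv_mem' := fun {a} ha => ⟨inv_mem ha.1, by rw [← _root_.conj_inv, ha.2]⟩ }
  refine ⟨T, fun g => Iff.rfl, ?_⟩
  set O' := ((H ⊓ V.O).subgroupOf H).map (qmap H)
  set W' := ((H ⊓ V.W).subgroupOf H).map (qmap H)
  have hTt : ∀ g ∈ T, g * V.tb hU = V.tb hU * g ∧ Odd (orderOf g) := fun g hg => by
    obtain ⟨i, rfl⟩ := mem_zpowers_iff.1 hg.1
    exact ⟨(show Commute τ (V.tb hU) from hτt).zpow_left i, hτo.of_dvd_nat (orderOf_dvd_of_mem_zpowers hg.1)⟩
  have hmemO : ∀ g : H ⧸ Cfsg.oddCore H, g * V.tb hU = V.tb hU * g → Odd (orderOf g) → g ∈ O' := by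
    intro g hgt hgo
    obtain ⟨x, hx, rfl⟩ : g ∈ ((H ⊓ V.C).subgroupOf H).map (qmap H) := by
      rw [V.map_cent_t hU]; exact mem_centralizer_singleton_iff.2 hgt
    obtain ⟨e, m, hm', he⟩ := Nat.exists_eq_pow_mul_and_not_dvd (orderOf_pos x).ne' 2 (by norm_num)
    have hmo : Odd m := Nat.not_even_iff_odd.1 fun h => hm' (even_iff_two_dvd.1 h)
    have hxO : x ^ 2 ^ e ∈ (H ⊓ V.O).subgroupOf H := by
      refine mem_subgroupOf.2 ⟨SetLike.coe_mem _, (hm.mem_O V).2 ⟨?_, ?_⟩⟩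
      · rw [SubmonoidClass.coe_pow]
        exact (show Commute (x : G) V.t from V.mem_C.1 (mem_subgroupOf.1 hx).2).pow_left _
      · rw [orderOf_coe, orderOf_pow_of_dvd (by positivity) (he ▸ dvd_mul_right _ _), he,
          Nat.mul_div_cancel_left _ (Nat.two_pow_pos e)]
        exact hmo
    obtain ⟨i, hi⟩ := exists_pow_eq_self_of_coprime (n := 2 ^ e) (x := qmap H x)
      ((Nat.coprime_two_left.2 hgo).pow_left e)
    rw [← hi, ← map_pow]
    exact pow_mem (mem_map_of_mem _ hxO) i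
  have hW' : ∀ g ∈ W', g * V.ub hU = V.ub hU * g := by
    rintro _ ⟨x, hx, rfl⟩
    rw [Cfsg.Lib.GW.Frame.ub, ← map_mul, ← map_mul]
    exact congrArg _ (Subtype.ext (V.mem_W.1 (mem_subgroupOf.1 hx).2).2)
  have hW'O : W' ≤ O' := map_mono fun x hx => mem_subgroupOf.2 ⟨x.2, V.W_le (mem_subgroupOf.1 hx).2⟩
  rw [← Nat.card_prod]
  refine (Nat.card_eq_of_bijective (fun p : W' × T => (⟨(p.1 : H ⧸ Cfsg.oddCore H) * p.2,
    mul_mem (hW'O p.1.2) (hmemO _ (hTt _ p.2.2).1 (hTt _ p.2.2).2)⟩ : O')) ⟨fun p q h => ?_, fun g => ?_⟩).symm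
  · have h' : (p.1 : H ⧸ Cfsg.oddCore H) * p.2 = q.1 * q.2 := congrArg Subtype.val h
    have h1 : (q.1 : H ⧸ Cfsg.oddCore H)⁻¹ * p.1 = q.2 * (p.2 : H ⧸ Cfsg.oddCore H)⁻¹ := by
      rw [eq_mul_inv_iff_mul_eq, mul_assoc, h', inv_mul_cancel_left]
    have hT' : (q.2 : H ⧸ Cfsg.oddCore H) * (p.2 : H ⧸ Cfsg.oddCore H)⁻¹ ∈ T := mul_mem q.2.2 (inv_mem p.2.2)
    have hf : Commute ((q.2 : H ⧸ Cfsg.oddCore H) * (p.2 : H ⧸ Cfsg.oddCore H)⁻¹) (V.ub hU) := by
      rw [← h1]; exact hW' _ (mul_mem (inv_mem q.1.2) p.1.2)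
    have h2 : (q.2 : H ⧸ Cfsg.oddCore H) * (p.2 : H ⧸ Cfsg.oddCore H)⁻¹ = 1 := by
      have h3 := hT'.2
      rw [← hf.eq, mul_inv_cancel_right] at h3
      exact Cfsg.Lib.GenDihedral.eq_one_of_sq_of_odd (mul_eq_one_iff_eq_inv.2 h3) (hTt _ hT').2
    have e2 : q.2 = p.2 := Subtype.ext (mul_inv_eq_one.1 h2)
    rw [e2] at h'
    exact Prod.ext (Subtype.ext (mul_right_cancel h')) e2.symm
  · obtain ⟨x, hx, hxg⟩ := g.2
    have hodd : Odd (Nat.card ↥(H ⊓ V.O)) := V.odd_card_O.of_dvd_nat (card_dvd_of_le inf_le_right)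
    have huN : V.u ∈ normalizer ((H ⊓ V.O : Subgroup G) : Set G) := by
      refine mem_normalizer_iff.2 fun z => and_congr (mem_normalizer_iff.1 ?_ z)
        (mem_normalizer_iff.1 (V.U_le_normalizer_O V.u_mem_U) z)
      exact Subgroup.le_normalizer (hU V.u_mem_U)
    obtain ⟨p, hp, b, hb, hpf, hbi, e⟩ := exists_fixed_mul_inverted hodd V.u_sq huN (mem_subgroupOf.1 hx)
    have hpW : qmap H ⟨p, hp.1⟩ ∈ W' := mem_map_of_mem _ (mem_subgroupOf.2 (Subgroup.mem_inf.2
      ⟨hp.1, V.mem_W.2 ⟨hp.2, mul_inv_eq_iff_eq_mul.1 hpf |>.symm⟩⟩))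
    have hbc : V.u * b * V.u⁻¹ * b ∈ Core H := by rw [hbi, inv_mul_cancel]; exact one_mem _
    have hbT : qmap H ⟨b, hb.1⟩ ∈ T := inverted_mem_tor hm hU D hτ hb hbc
    refine ⟨(⟨_, hpW⟩, ⟨_, hbT⟩), Subtype.ext ?_⟩
    show qmap H ⟨p, hp.1⟩ * qmap H ⟨b, hb.1⟩ = (g : H ⧸ Cfsg.oddCore H)
    rw [← hxg, ← map_mul]
    exact congrArg _ (Subtype.ext e.symm)

omit hU

theorem Minimal.topSpec : TopSpec V := fun H hH hR => by
  have hU := hR.1
  rcases hm.cases V hU hH with h2 | ⟨L, D, hL4, -⟩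
  · exact absurd hR (not_rot_of_two V h2)
  haveI := D.normal
  obtain ⟨htL, huL⟩ := (rot_iff V hU D).1 hR
  have F4 := V.four_q hU
  obtain ⟨τ, hτ⟩ := D.torus _ F4.z2 htL
  obtain ⟨hQo, k, hk⟩ := hm.cent_two_part V hU D htL
  obtain ⟨T, hT, hcardO⟩ := hm.card_imgO V hU D hτ.gen hτ.odd hτ.comm
  set Q := (centralizer ({V.tb hU} : Set (H ⧸ Cfsg.oddCore H))).index with hQ
  have hTle : T ≤ zpowers τ := fun g hg => ((hT g).1 hg).1
  have hTd : Nat.card T ∣ orderOf τ := by rw [← Nat.card_zpowers]; exact card_dvd_of_le hTle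
  have hTo : Odd (Nat.card T) := hτ.odd.of_dvd_nat hTd
  have hinv : ∀ x : G, (hx : x ∈ H ⊓ V.O) → V.u * x * V.u⁻¹ * x ∈ Core H → qmap H ⟨x, hx.1⟩ ∈ T :=
    fun x hx hi => (hT _).2 (inverted_mem_tor hm hU D hτ.gen hx hi)
  have hoddO : Odd (Nat.card ↥(((H ⊓ V.O).subgroupOf H).map (qmap H))) :=
    (V.odd_card_O.of_dvd_nat (card_dvd_of_le inf_le_right)).of_dvd_nat
      ((card_map_dvd _ _).trans (Nat.card_congr (subgroupOfEquivOfLe inf_le_left).toEquiv).dvd)
  have hHq : Nat.card (H ⧸ Cfsg.oddCore H) = Q * (2 ^ k * Nat.card ↥(((H ⊓ V.O).subgroupOf H).map (qmap H))) := by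
    rw [← hk, mul_comm]; exact (Subgroup.card_mul_index _).symm
  have hHH : Nat.card H = Nat.card ↥(Core H) * Nat.card (H ⧸ Cfsg.oddCore H) := by
    have h := card_image (H := H) (S := H) le_rfl
    rwa [inf_eq_right.2 (core_le H), subgroupOf_self, map_top_of_surjective _ (QuotientGroup.mk'_surjective _),
      card_top] at h
  have hfacq : (Nat.card (H ⧸ Cfsg.oddCore H)).factorization 2 = k := by
    rw [hHq, Nat.factorization_mul (Nat.pos_iff_ne_zero.1 hQo.pos) (Nat.mul_ne_zero (by positivity) Nat.card_pos.ne'),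
      Finsupp.add_apply, factorization_odd hQo, Nat.factorization_mul (by positivity) Nat.card_pos.ne',
      Finsupp.add_apply, factorization_odd hoddO, Nat.Prime.factorization_pow Nat.prime_two]
    simp
  have hfac : (Nat.card H).factorization 2 = k := by
    rw [hHH, Nat.factorization_mul Nat.card_pos.ne' Nat.card_pos.ne', Finsupp.add_apply,
      factorization_odd (Cfsg.Lib.GW.Frame.odd_card_core H), hfacq, zero_add]
  have hk2 : 2 ≤ k := by
    rw [← hfac]
    exact (Nat.prime_two.pow_dvd_iff_le_factorization Nat.card_pos.ne').1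
      (by rw [← show Nat.card V.U = 2 ^ 2 from V.card_U]; exact card_dvd_of_le hU)
  refine ⟨k, Nat.card T, Q, hk2, hTo, ?_, hfac, ?_, ?_, ?_, ?_, ?_, ?_⟩
  · refine le_trans ?_ hτ.bound
    have := Nat.le_of_dvd hτ.odd.pos hTd
    exact Nat.mul_le_mul (by omega) (by omega)
  · -- order
    have hO := card_image (H := H) (S := H ⊓ V.O) inf_le_left
    have hW := card_image (H := H) (S := H ⊓ V.W) inf_le_left
    have e1 : H ⊓ V.O ⊓ Core H = Core H ⊓ centralizer {V.t} := by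
      refine le_antisymm (fun x hx => ⟨hx.2, mem_centralizer_singleton_iff.2 ((hm.mem_O V).1 hx.1.2).1⟩)
        fun x hx => ⟨⟨core_le H hx.1, (hm.mem_O V).2 ⟨mem_centralizer_singleton_iff.1 hx.2,
          Cfsg.Lib.GW.Frame.odd_orderOf (Cfsg.Lib.GW.Frame.odd_card_core H) hx.1⟩⟩, hx.1⟩
    have e2 : H ⊓ V.W ⊓ Core H = Core H ⊓ centralizer (V.U : Set G) := by
      refine le_antisymm (fun x hx => ⟨hx.2, V.W_le_centralizer_U hx.1.2⟩) fun x hx => ?_
      obtain ⟨hc1, hc2⟩ := V.mem_centralizer_U.1 hx.2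
      exact ⟨⟨core_le H hx.1, V.mem_W.2 ⟨(hm.mem_O V).2 ⟨hc1,
        Cfsg.Lib.GW.Frame.odd_orderOf (Cfsg.Lib.GW.Frame.odd_card_core H) hx.1⟩, hc2⟩⟩, hx.1⟩
    rw [e1, hcardO] at hO
    rw [e2] at hW
    have hform := V.card_formula (Cfsg.Lib.GW.Frame.odd_card_core H) (hU.trans (le_normalizer_core H))
    obtain ⟨-, g, hg, hgt, hgu⟩ := hR
    rw [← hgu, V.core_inf_cent_conj hU hg, ← hgt, V.core_inf_cent_conj hU hg] at hform
    rw [hHH, hHq, hcardO, hO, hW]
    calc _ = (Nat.card ↥(Core H) * Nat.card ↥(Core H ⊓ centralizer (V.U : Set G)) ^ 2) *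
        (2 ^ k * Q * (Nat.card ↥(((H ⊓ V.W).subgroupOf H).map (qmap H)) * Nat.card T) ^ 3) := by ring
      _ = _ := by rw [hform]; ring
  · -- index
    rw [hQ, ← index_comap_of_surjective _ (QuotientGroup.mk'_surjective (Cfsg.oddCore H))]
    exact congrArg Subgroup.index (V.comap_cent_t hU).symm
  · -- torus
    intro K hK hKi
    have hKH : K ≤ H := hK.trans inf_le_left
    have hle : (K.subgroupOf H).map (qmap H) ≤ T := by
      rintro _ ⟨x, hx, rfl⟩
      exact hinv x (hK (mem_subgroupOf.1 hx)) (hKi x (mem_subgroupOf.1 hx))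
    constructor
    · have h1 := card_image hKH
      have h2 : Nat.card ↥(K ⊓ Core H) * (Core H).relIndex K = Nat.card K := by
        rw [← inf_relIndex_left (H := K), ← relIndex_bot_left, ← relIndex_bot_left K,
          relIndex_mul_relIndex _ _ _ bot_le inf_le_left]
      rw [h1] at h2
      rw [Nat.eq_of_mul_eq_mul_left Nat.card_pos h2]
      exact card_dvd_of_le hle
    · exact ((hm.torusAll V H hH hU).1 K hK hKi)
  · exact (hm.torusAll V H hH hU).2
  · -- no subgroup of index two: `L` has odd index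
    intro hno
    have hodd : Odd L.index := by
      refine Nat.not_even_iff_odd.1 fun hev => ?_
      haveI : Fact (Nat.Prime 2) := ⟨Nat.prime_two⟩
      obtain ⟨z, hz⟩ := exists_prime_orderOf_dvd_card' (G := (H ⧸ Cfsg.oddCore H) ⧸ L) 2
        (by rw [← index_eq_card]; exact hev.two_dvd)
      obtain ⟨M, hM, hi⟩ := exists_normal_index_two (by rwa [← index_eq_card]) hz
      refine hno ((M.comap (QuotientGroup.mk' L)).comap (qmap H)) ?_
      rw [index_comap_of_surjective _ (QuotientGroup.mk'_surjective _),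
        index_comap_of_surjective _ (QuotientGroup.mk'_surjective _), hi]
    have hfL : (Nat.card L).factorization 2 = k := by
      rw [← hfacq, ← L.card_mul_index, Nat.factorization_mul Nat.card_pos.ne' (Nat.pos_iff_ne_zero.1 hodd.pos),
        Finsupp.add_apply, factorization_odd hodd, add_zero]
    rcases hτ.full _ hTd with h | h
    · exact Or.inr ⟨h.1, h.2.1, hfL ▸ h.2.2⟩
    · rw [hfL] at h; exact Or.inl h
  · -- centralizer_le
    have hright : (∀ a ∈ zpowers τ, a ≠ 1 → a ∈ T → ∀ g, g * a = a * g → g * V.tb hU = V.tb hU * g) →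
        ∀ x ∈ H ⊓ V.O, x ∉ Core H → V.u * x * V.u⁻¹ * x ∈ Core H →
          H ⊓ centralizer {x} ≤ Core H ⊔ (H ⊓ V.C) := by
      intro hcl x hx hxc hxi h hh
      have h1 := hcl _ (hTle (hinv x hx hxi)) (fun e => hxc (qmap_eq_one.1 e)) (hinv x hx hxi)
        (qmap H ⟨h, hh.1⟩) (by
          rw [← map_mul, ← map_mul]
          exact congrArg _ (Subtype.ext (mem_centralizer_singleton_iff.1 hh.2)))
      have h2 : (⟨h, hh.1⟩ : H) ∈ (centralizer ({V.tb hU} : Set (H ⧸ Cfsg.oddCore H))).comap (qmap H) :=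
        mem_centralizer_singleton_iff.2 h1
      rw [V.comap_cent_t hU] at h2
      exact h2
    rcases hτ.ti with ⟨h3, h105, v', hv2, hvne, hvt, hvτ⟩ | hti
    swap
    · exact Or.inr (hright fun a ha ha1 _ g hg => (hti a ha ha1).1 g hg)
    rw [h3] at hTd
    rcases (Nat.dvd_prime Nat.prime_three).1 hTd with h1 | hT3
    · refine Or.inr (hright fun a _ ha1 haT g _ => absurd ?_ ha1)
      rw [Subgroup.eq_bot_of_card_eq T h1] at haT
      exact mem_bot.1 haT
    refine Or.inl ⟨hT3, h105, ?_⟩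
    have hTeq : T = zpowers τ := Subgroup.eq_of_le_of_card_ge hTle (by rw [hT3, Nat.card_zpowers, h3])
    obtain ⟨y, hy, hyv⟩ : v' ∈ ((H ⊓ V.C).subgroupOf H).map (qmap H) := by
      rw [V.map_cent_t hU]; exact mem_centralizer_singleton_iff.2 hvt
    obtain ⟨e, m, hm', he⟩ := Nat.exists_eq_pow_mul_and_not_dvd (orderOf_pos y).ne' 2 (by norm_num)
    obtain ⟨j, rfl⟩ : Odd m := Nat.not_even_iff_odd.1 fun h => hm' (even_iff_two_dvd.1 h)
    set v := y ^ (2 * j + 1) with hvd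
    have hvq : qmap H v = v' := by
      rw [hvd, map_pow, hyv, pow_succ, pow_mul, pow_two, mul_self_of_two hv2, one_pow, one_mul]
    have hvv : v * v = 1 := by
      have h1 : v * v ∈ Cfsg.oddCore H := by
        rw [← QuotientGroup.eq_one_iff]
        show qmap H (v * v) = 1
        rw [map_mul, hvq, mul_self_of_two hv2]
      have ho := Cfsg.Lib.GW.Frame.odd_orderOf (Cfsg.Lib.GW.Frame.odd_card_core H)
        (show ((v * v : H) : G) ∈ Core H from ⟨_, h1, rfl⟩)
      rw [orderOf_coe] at ho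
      have h2 : orderOf (v * v) ∣ 2 ^ e := orderOf_dvd_of_pow_eq_one (by
        rw [hvd, ← pow_two, ← pow_mul, ← pow_mul, show (2 * j + 1) * (2 * 2 ^ e) = orderOf y * 2 by rw [he]; ring,
          pow_mul, pow_orderOf_eq_one, one_pow])
      exact orderOf_eq_one_iff.1 (Nat.eq_one_of_dvd_coprimes ((Nat.coprime_two_left.2 ho).pow_left e) h2 dvd_rfl)
    have hvC : (v : G) * V.t = V.t * v := by
      rw [hvd, SubmonoidClass.coe_pow]
      exact (show Commute (y : G) V.t from V.mem_C.1 (mem_subgroupOf.1 hy).2).pow_left _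
    refine ⟨v, v.2, ?_, ?_, hvC, fun x hx => ?_⟩
    · refine orderOf_eq_prime (by rw [pow_two, ← Subgroup.coe_mul, hvv]; rfl) fun h1 => ?_
      rw [← hvq, show v = 1 from Subtype.ext h1, map_one, orderOf_one] at hv2
      omega
    · intro h
      refine hvne ?_
      rw [← hvq, Cfsg.Lib.GW.Frame.tb]
      exact congrArg _ (Subtype.ext h)
    · -- `v'` centralises the image of `H ⊓ O`
      have h1 := hvτ (qmap H ⟨x, hx.1⟩) (((hm.mem_O V).1 hx.2).2.of_dvd_nat
        ((orderOf_map_dvd _ _).trans (Subgroup.orderOf_mk x hx.1).dvd)) (by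
          rw [Cfsg.Lib.GW.Frame.tb, ← map_mul, ← map_mul]
          exact congrArg _ (Subtype.ext ((hm.mem_O V).1 hx.2).1))
      refine (qmap_eq_one (x := v * ⟨x, hx.1⟩ * v⁻¹ * (⟨x, hx.1⟩ : H)⁻¹)).1 ?_
      rw [map_mul, map_mul, map_mul, map_inv, map_inv, hvq, h1, mul_inv_cancel_right, mul_inv_cancel]

theorem Minimal.properSpec : ProperSpec V :=
  ⟨hm.topSpec V, hm.splitSpec V, hm.compSpec V, hm.oddSpec V⟩

end Cfsg.Lib.GWD
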