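import Cfsg.Agent.GWDihedral.Proper.Basic
import Cfsg.Agent.GWDihedral.Mixed.Spec

/-!
GW dihedral, the proper subgroups containing a four-group: odd invariant subgroups, split subgroups, components and the
torus of any involution.
-/

set_option autoImplicit false
set_option linter.unusedSectionVars false
set_option linter.style.haveILetI false

namespace Cfsg.Lib.GWD

open Subgroup
open scoped commutatorElement
open Cfsg.Lib.GenDihedral (IsFour isFour_of_comm mul_self_of_two inv_of_two)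
open Cfsg.Lib.GW (Core qmap qmap_eq qmap_eq_one core_le le_normalizer_core)

universe u

variable {G : Type u} [Group G] [Finite G] {V : Cfsg.Lib.GW.Frame G} {H : Subgroup G}

theorem eq_one_of_two_q (h2 : IsPGroup 2 (H ⧸ Cfsg.oddCore H)) {x : G} (hx : x ∈ H) (ho : Odd (orderOf x)) :
    qmap H ⟨x, hx⟩ = 1 := by
  obtain ⟨k, hk⟩ := IsPGroup.iff_orderOf.1 h2 (qmap H ⟨x, hx⟩)
  exact orderOf_eq_one_iff.1 (Nat.eq_one_of_dvd_coprimes ((Nat.coprime_two_left.2 ho).pow_left k) hk.dvd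
    ((orderOf_map_dvd _ _).trans (Subgroup.orderOf_mk x hx).dvd))

/-- Every involution of the four-group is the image of one in `V`. -/
theorem exists_lift_U (hU : V.U ≤ H) {x : H ⧸ Cfsg.oddCore H}
    (hx : x = V.tb hU ∨ x = V.ub hU ∨ x = V.tb hU * V.ub hU) :
    ∃ (s : G) (hs : s ∈ V.U), s ≠ 1 ∧ qmap H ⟨s, hU hs⟩ = x := by
  rcases hx with rfl | rfl | rfl
  · exact ⟨V.t, V.t_mem_U, V.t_ne_one, rfl⟩
  · exact ⟨V.u, V.u_mem_U, V.u_ne_one, rfl⟩
  · exact ⟨V.t * V.u, mul_mem V.t_mem_U V.u_mem_U,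
      fun e => V.t_ne_u (by rw [mul_eq_one_iff_eq_inv.1 e, V.u_inv]), map_mul (qmap H)
        ⟨V.t, (V.U_le_iff.1 hU).1⟩ ⟨V.u, (V.U_le_iff.1 hU).2⟩⟩

/-- Modulo the odd core an invariant subgroup of odd order is centralised by an involution of the four-group. -/
theorem Minimal.oddSpec (hm : Minimal G) (V : Cfsg.Lib.GW.Frame G) : V.OddSpec := fun H hH hU K hK hKo hKn => by
  rcases hm.cases V hU hH with h2 | ⟨L, D, -, -⟩
  · refine ⟨V.t, V.t_mem_U, V.t_ne_one, fun k hk => ?_⟩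
    have key : ∀ k ∈ K, k ∈ Core H := fun k hk =>
      qmap_eq_one.1 (eq_one_of_two_q h2 (hK hk) (Cfsg.Lib.GW.Frame.odd_orderOf hKo hk))
    exact mul_mem (inv_mem (key k hk))
      ((mem_normalizer_iff.1 (le_normalizer_core H (hU V.t_mem_U)) k).1 (key k hk))
  · have F4 := V.four_q hU
    have hodd : Odd (Nat.card ↥((K.subgroupOf H).map (qmap H))) :=
      hKo.of_dvd_nat ((card_map_dvd _ _).trans (Nat.card_congr (subgroupOfEquivOfLe hK).toEquiv).dvd)
    have hn : Cfsg.Lib.GenDihedral.Vg (V.tb hU) (V.ub hU) ≤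
        normalizer (((K.subgroupOf H).map (qmap H) : Subgroup _) : Set (H ⧸ Cfsg.oddCore H)) := by
      have key : ∀ s : G, (hs : s ∈ V.U) → qmap H ⟨s, hU hs⟩ ∈
          normalizer (((K.subgroupOf H).map (qmap H) : Subgroup _) : Set (H ⧸ Cfsg.oddCore H)) := fun s hs => by
        refine le_normalizer_map (qmap H) ⟨⟨s, hU hs⟩, ?_, rfl⟩
        exact mem_normalizer_iff.2 fun z => mem_normalizer_iff.1 (hKn hs) z
      exact F4.le_normalizer_iff.2 ⟨key V.t V.t_mem_U, key V.u V.u_mem_U⟩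
    obtain ⟨x, hx, hfix⟩ := D.fix _ _ _ F4 _ hodd hn
    obtain ⟨s, hs, hs1, rfl⟩ := exists_lift_U hU hx
    refine ⟨s, hs, hs1, fun k hk => ?_⟩
    have hc := mem_centralizer_singleton_iff.1 (hfix ⟨⟨k, hK hk⟩, mem_subgroupOf.2 hk, rfl⟩)
    have h' : qmap H ((⟨k, hK hk⟩ : H)⁻¹ * (⟨s, hU hs⟩ * ⟨k, hK hk⟩ * (⟨s, hU hs⟩ : H)⁻¹)) = 1 := by
      rw [map_mul, map_mul, map_mul, map_inv, map_inv, ← hc, mul_inv_cancel_right, inv_mul_cancel]
    exact qmap_eq_one.1 h'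

/-- The subgroup of index two omitting an involution outside `L`. -/
theorem exists_index_two_over {L : Subgroup (H ⧸ Cfsg.oddCore H)} [L.Normal] (h4 : ¬ 4 ∣ L.index)
    {x : H ⧸ Cfsg.oddCore H} (hx : orderOf x = 2) (hxL : x ∉ L) :
    ∃ M : Subgroup (H ⧸ Cfsg.oddCore H), M.Normal ∧ M.index = 2 ∧ L ≤ M ∧ x ∉ M := by
  set π := QuotientGroup.mk' L
  have h2 : orderOf (π x) = 2 := orderOf_eq_prime (by rw [← map_pow, pow_two, mul_self_of_two hx, map_one])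
    fun e => hxL ((QuotientGroup.eq_one_iff _).1 e)
  obtain ⟨M, hM, hi⟩ := exists_normal_index_two (Z := (H ⧸ Cfsg.oddCore H) ⧸ L) (by rwa [← index_eq_card]) h2
  haveI := hM
  refine ⟨M.comap π, inferInstance, by rw [index_comap_of_surjective _ (QuotientGroup.mk'_surjective L), hi],
    (QuotientGroup.ker_mk' L).symm.le.trans (Subgroup.ker_le_comap π M), fun h => ?_⟩
  have hdvd : 2 ∣ Nat.card M := h2.symm.dvd.trans (Subgroup.orderOf_dvd_natCard M h)
  refine h4 ?_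
  rw [index_eq_card, ← M.card_mul_index, hi]
  exact Nat.mul_dvd_mul hdvd dvd_rfl

theorem Minimal.splitSpec (hm : Minimal G) (V : Cfsg.Lib.GW.Frame G) : SplitSpec V := fun H hH hU hR => by
  rcases hm.cases V hU hH with h2 | ⟨L, D, h4, -⟩
  · exact Or.inl h2
  refine Or.inr ?_
  haveI := D.normal
  have F4 := V.four_q hU
  obtain ⟨x, hx, hx2, hxU⟩ : ∃ x : H ⧸ Cfsg.oddCore H, x ∉ L ∧ orderOf x = 2 ∧
      ∃ (s : G) (hs : s ∈ V.U), qmap H ⟨s, hU hs⟩ = x := by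
    by_contra h
    push Not at h
    refine hR ((rot_iff V hU D).2 ⟨?_, ?_⟩)
    · by_contra ht
      exact h _ ht F4.z2 V.t V.t_mem_U rfl
    · by_contra hu
      exact h _ hu F4.t2 V.u V.u_mem_U rfl
  obtain ⟨s, hs, hsx⟩ := hxU
  obtain ⟨M, hM, hM2, hLM, hxM⟩ := exists_index_two_over h4 hx2 hx
  haveI := hM
  obtain ⟨a', b', haL, hbL, F4'⟩ := D.four
  obtain ⟨a, b, hqa, hqb, ha2, hb2, hab⟩ := hm.exists_lift_four F4'
  obtain ⟨l, hl, hl1, hl2⟩ := D.rot a' b' haL hbL F4'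
  obtain ⟨h, rfl⟩ := QuotientGroup.mk'_surjective _ l
  obtain ⟨g, hgH, hga, hgb, hgH', hgq⟩ := exists_rot_lift (H := H) (mul_self_of_two ha2) (mul_self_of_two hb2) hab
    a.2 b.2 (h := h) (by rw [Subtype.coe_eta, Subtype.coe_eta, hqa, hqb]; exact hl1)
    (by rw [Subtype.coe_eta, Subtype.coe_eta, hqa, hqb]; exact hl2)
  have hne : (a : G) ≠ b := fun e => F4'.ne_zt (by rw [← hqa, ← hqb, Subtype.ext e])
  let V' : Cfsg.Lib.GW.Frame G :=
    { t := a, u := b, σ := g, t_order := ha2, u_order := hb2, t_ne_u := hne, comm := hab, σ_t := hga, σ_u := hgb }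
  set K := (M.comap (qmap H)).map H.subtype with hK
  have hmem : ∀ y : H, qmap H y ∈ L → (y : G) ∈ K := fun y hy => ⟨y, hLM hy, rfl⟩
  refine ⟨V', K, ⟨V'.U_le_iff.2 ⟨hmem a (hqa ▸ haL), hmem b (hqb ▸ hbL)⟩, g,
    hmem ⟨g, hgH'⟩ (hgq ▸ hl), hga, hgb⟩, map_subtype_le _, ?_, ?_, ?_⟩
  · intro y hy
    refine le_normalizer_map H.subtype ⟨⟨y, hy⟩, ?_, rfl⟩
    rw [normalizer_eq_top]; exact mem_top _
  · show K.relIndex H = 2
    rw [relIndex, hK, subgroupOf, comap_map_eq_self_of_injective H.subtype_injective,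
      index_comap_of_surjective _ (QuotientGroup.mk'_surjective _), hM2]
  · intro hUK
    obtain ⟨y, hy, e⟩ := hUK hs
    refine hxM ?_
    rw [← hsx, show (⟨s, hU hs⟩ : H) = y from Subtype.ext e.symm]
    exact hy

theorem Minimal.compSpec (hm : Minimal G) (V : Cfsg.Lib.GW.Frame G) : CompSpec V := fun H hH hU hne => by
  haveI : Fact (Nat.Prime 2) := ⟨Nat.prime_two⟩
  have hlay : Cfsg.layer H ≠ ⊥ := fun e => hne (by
    show Cfsg.layer H ⊔ Cfsg.fittingSubgroup H = _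
    rw [e, bot_sup_eq])
  set E := Cfsg.layer H with hE
  haveI hEn : E.Normal := Subgroup.normal_of_characteristic E
  have hEp : ⁅E, E⁆ = E := Cfsg.Lib.Components.layer_perfect
  have hns : ¬ Group.IsSolvable E := fun hs => by
    haveI := hs
    haveI : Nontrivial E := (nontrivial_iff_ne_bot E).2 hlay
    refine (Group.IsSolvable.commutator_lt_top_of_nontrivial E).ne (map_injective E.subtype_injective ?_)
    rw [_root_.commutator_def, map_commutator, ← MonoidHom.range_eq_map, Subgroup.range_subtype, hEp]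
  have hsol : Group.IsSolvable (Cfsg.oddCore H) := Cfsg.Agent.PF.isSolvable_of_odd _ (by
    rw [← card_map_of_injective (K := Cfsg.oddCore H) H.subtype_injective]
    exact Cfsg.Lib.GW.Frame.odd_card_core H)
  have hEb : E.map (qmap H) ≠ ⊥ := fun e => by
    rw [Subgroup.map_eq_bot_iff, QuotientGroup.ker_mk'] at e
    exact hns (Cfsg.Lib.GenDihedral.solvable_of_le e hsol)
  have hEbp : ⁅E.map (qmap H), E.map (qmap H)⁆ = E.map (qmap H) := by rw [← map_commutator, hEp]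
  haveI : (E.map (qmap H)).Normal := hEn.map _ (QuotientGroup.mk'_surjective _)
  have hnq : ¬ Group.IsSolvable (H ⧸ Cfsg.oddCore H) := fun hs => by
    haveI := hs
    have h := Group.IsSolvable.commutator_lt_of_ne_bot hEb
    rw [hEbp] at h
    exact lt_irrefl _ h
  rcases hm.cases V hU hH with h2 | ⟨L, D, h4, hs | ⟨hLs, hC⟩⟩
  · haveI : Group.IsNilpotent (H ⧸ Cfsg.oddCore H) := h2.isNilpotent
    exact absurd (inferInstance : Group.IsSolvable (H ⧸ Cfsg.oddCore H)) hnq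
  · exact absurd hs hnq
  haveI := D.normal
  haveI := hLs
  -- the image of the layer is `L`
  have hEL : E.map (qmap H) = L := by
    have hle : E.map (qmap H) ≤ L := by
      have h1 : (E.map (qmap H)).map (QuotientGroup.mk' L) = ⊥ := by
        haveI : Group.IsSolvable ((H ⧸ Cfsg.oddCore H) ⧸ L) :=
          Cfsg.Lib.GenDihedral.solvable_of_not_four (by rwa [← index_eq_card])
        by_contra h
        have h2 := Group.IsSolvable.commutator_lt_of_ne_bot h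
        rw [← map_commutator, hEbp] at h2
        exact lt_irrefl _ h2
      rwa [Subgroup.map_eq_bot_iff, QuotientGroup.ker_mk'] at h1
    haveI : ((E.map (qmap H)).subgroupOf L).Normal := normal_subgroupOf
    rcases (inferInstance : ((E.map (qmap H)).subgroupOf L).Normal).eq_bot_or_eq_top with h | h
    · rw [subgroupOf_eq_bot] at h
      exact absurd (disjoint_self.1 (h.mono_right hle)) hEb
    · exact le_antisymm hle (subgroupOf_eq_top.1 h)
  have F4 := V.four_q hU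
  have hcore : ∀ e ∈ E, ∀ n ∈ Cfsg.oddCore H, n * e = e * n := fun e he n hn =>
    mem_centralizer_iff.1 (Cfsg.Lib.Components.layer_le_centralizer_solvable_normal hsol he) n hn
  -- the involutions of `L` in the four-group lie in the layer
  have key : ∀ s : G, (hs : s ∈ V.U) → qmap H ⟨s, hU hs⟩ ∈ L → s ∈ E.map H.subtype := fun s hs hsL => by
    obtain ⟨e, he, hes⟩ : qmap H ⟨s, hU hs⟩ ∈ E.map (qmap H) := hEL ▸ hsL
    have hn : e⁻¹ * ⟨s, hU hs⟩ ∈ Cfsg.oddCore H := by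
      rw [← QuotientGroup.eq_one_iff]
      show qmap H (e⁻¹ * ⟨s, hU hs⟩) = 1
      rw [map_mul, map_inv, hes, inv_mul_cancel]
    set n := e⁻¹ * ⟨s, hU hs⟩ with hnd
    have ho : Odd (orderOf n) := by
      have := Cfsg.Lib.GW.Frame.odd_orderOf (Cfsg.Lib.GW.Frame.odd_card_core H)
        (show ((n : H) : G) ∈ Core H from ⟨n, hn, rfl⟩)
      rwa [orderOf_coe] at this
    have hc : Commute e n := (hcore e he n hn).symm
    have hs' : (⟨s, hU hs⟩ : H) = e * n := (mul_inv_cancel_left e _).symm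
    obtain ⟨k, hk⟩ := ho
    have hpow : (⟨s, hU hs⟩ : H) ^ orderOf n = ⟨s, hU hs⟩ := by
      rw [hk, pow_succ, pow_mul, pow_two, show (⟨s, hU hs⟩ : H) * ⟨s, hU hs⟩ = 1 from Subtype.ext (by
        rcases V.mem_U.1 hs with rfl | rfl | rfl | rfl
        exacts [one_mul 1, V.t_sq, V.u_sq, V.v_sq]), one_pow, one_mul]
    refine ⟨⟨s, hU hs⟩, ?_, rfl⟩
    rw [← hpow, hs', hc.mul_pow, pow_orderOf_eq_one, mul_one]
    exact pow_mem he _
  refine ⟨E.map H.subtype, map_subtype_le _, ?_, ?_, ?_, ?_, ?_⟩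
  · intro h hh
    refine le_normalizer_map H.subtype ⟨⟨h, hh⟩, ?_, rfl⟩
    rw [normalizer_eq_top]; exact mem_top _
  · rw [← map_commutator, hEp]
  · intro hbot
    obtain ⟨s, hs, hs1, hsL⟩ : ∃ (s : G) (hs : s ∈ V.U), s ≠ 1 ∧ qmap H ⟨s, hU hs⟩ ∈ L := by
      by_cases ht : V.tb hU ∈ L
      · exact ⟨V.t, V.t_mem_U, V.t_ne_one, ht⟩
      by_cases hu : V.ub hU ∈ L
      · exact ⟨V.u, V.u_mem_U, V.u_ne_one, hu⟩
      obtain ⟨s, hs, hs1, e⟩ := exists_lift_U hU (Or.inr (Or.inr rfl))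
      exact ⟨s, hs, hs1, e ▸ D.coset _ _ F4.z2 F4.t2 ht hu⟩
    exact hs1 (mem_bot.1 (hbot ▸ Subgroup.mem_inf.2 ⟨hs, key s hs hsL⟩))
  · rintro _ ⟨d, hd, rfl⟩
    refine mem_centralizer_iff.2 ?_
    rintro _ ⟨e, he, rfl⟩
    exact congrArg Subtype.val (hcore e he d hd).symm
  · intro hUE
    have hin : ∀ s : G, (hs : s ∈ V.U) → qmap H ⟨s, hU hs⟩ ∈ L := fun s hs => by
      obtain ⟨e, he, hes⟩ := hUE hs
      rw [← hEL, show (⟨s, hU hs⟩ : H) = e from Subtype.ext hes.symm]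
      exact mem_map_of_mem _ he
    exact (rot_iff V hU D).2 ⟨hin _ V.t_mem_U, hin _ V.u_mem_U⟩

/-- The image of an element of `H ⊓ O` inverted modulo the core lies in a cyclic torus. -/
theorem inverted_mem_tor (hm : Minimal G) (hU : V.U ≤ H) {L : Subgroup (H ⧸ Cfsg.oddCore H)} (D : TopData L)
    {τ : H ⧸ Cfsg.oddCore H} (hτ : ∀ a ∈ L, Odd (orderOf a) → a * V.tb hU = V.tb hU * a → a ∈ zpowers τ)
    {x : G} (hx : x ∈ H ⊓ V.O) (hi : V.u * x * V.u⁻¹ * x ∈ Core H) :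
    qmap H ⟨x, hx.1⟩ ∈ zpowers τ ∧
      V.ub hU * qmap H ⟨x, hx.1⟩ * (V.ub hU)⁻¹ = (qmap H ⟨x, hx.1⟩)⁻¹ := by
  have F4 := V.four_q hU
  have ho : Odd (orderOf (qmap H ⟨x, hx.1⟩)) := (Cfsg.Lib.GW.Frame.odd_orderOf V.odd_card_O hx.2).of_dvd_nat
    ((orderOf_map_dvd _ _).trans (Subgroup.orderOf_mk x hx.1).dvd)
  have hinv : V.ub hU * qmap H ⟨x, hx.1⟩ * (V.ub hU)⁻¹ = (qmap H ⟨x, hx.1⟩)⁻¹ := by
    refine eq_inv_of_mul_eq_one_left ?_
    rw [Cfsg.Lib.GW.Frame.ub, ← map_inv, ← map_mul, ← map_mul, ← map_mul, qmap_eq_one]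
    exact hi
  refine ⟨hτ _ (D.mem_of_inverted F4.t2 ho hinv) ho ?_, hinv⟩
  rw [Cfsg.Lib.GW.Frame.tb, ← map_mul, ← map_mul]
  exact congrArg _ (Subtype.ext (((hm.mem_O V).1 hx.2).1))

theorem Minimal.torusAll (hm : Minimal G) (F : Cfsg.Lib.GW.Frame G) : TorusAll F := fun H hH hU => by
  have hcomm : ∀ x ∈ H ⊓ F.O, ∀ y ∈ H ⊓ F.O, F.u * x * F.u⁻¹ = x⁻¹ → F.u * x * F.u⁻¹ * x ∈ Core H := by
    intro x _ y _ hxi
    rw [hxi, inv_mul_cancel]; exact one_mem _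
  rcases hm.cases F hU hH with h2 | ⟨L, D, -, -⟩
  · have key : ∀ x ∈ H ⊓ F.O, x ∈ Core H := fun x hx =>
      qmap_eq_one.1 (eq_one_of_two_q h2 hx.1 ((hm.mem_O F).1 hx.2).2)
    exact ⟨fun K hK _ => ⟨1, one_mem K, fun k hk => mem_sup_right (key k (hK hk))⟩, fun x hx y hy _ _ =>
      mul_mem (mul_mem (mul_mem (key x hx) (key y hy)) (inv_mem (key x hx))) (inv_mem (key y hy))⟩
  obtain ⟨τ, -, -, -, hτ, -⟩ := D.cyc _ (F.four_q hU).z2
  refine ⟨fun K hK hKi => ?_, fun x hx y hy hxi hyi => ?_⟩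
  · have hKH : K ≤ H := hK.trans inf_le_left
    have hle : (K.subgroupOf H).map (qmap H) ≤ zpowers τ := by
      rintro _ ⟨x, hx, rfl⟩
      exact (inverted_mem_tor hm hU D hτ (hK (mem_subgroupOf.1 hx)) (hKi x (mem_subgroupOf.1 hx))).1
    haveI : IsCyclic ↥((K.subgroupOf H).map (qmap H)) := Subgroup.isCyclic_of_le hle
    obtain ⟨⟨y, x, hx, rfl⟩, hy⟩ := IsCyclic.exists_generator (α := ↥((K.subgroupOf H).map (qmap H)))
    refine ⟨x, mem_subgroupOf.1 hx, fun k hk => ?_⟩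
    obtain ⟨n, hn⟩ := mem_zpowers_iff.1 (hy ⟨qmap H ⟨k, hKH hk⟩, ⟨k, hKH hk⟩, mem_subgroupOf.2 hk, rfl⟩)
    have h1 : qmap H x ^ n = qmap H ⟨k, hKH hk⟩ := congrArg Subtype.val hn
    rw [← map_zpow, qmap_eq] at h1
    have h2 := mul_mem_sup (zpow_mem (mem_zpowers (x : G)) n) h1
    simpa using h2
  · obtain ⟨i, hi⟩ := mem_zpowers_iff.1 (inverted_mem_tor hm hU D hτ hx (hcomm x hx y hy hxi)).1
    obtain ⟨j, hj⟩ := mem_zpowers_iff.1 (inverted_mem_tor hm hU D hτ hy (hcomm y hy x hx hyi)).1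
    have h : qmap H ⟨x, hx.1⟩ * qmap H ⟨y, hy.1⟩ = qmap H ⟨y, hy.1⟩ * qmap H ⟨x, hx.1⟩ := by
      rw [← hi, ← hj, ← zpow_add, ← zpow_add, add_comm]
    have h' : qmap H (⟨x, hx.1⟩ * ⟨y, hy.1⟩ * (⟨x, hx.1⟩ : H)⁻¹ * (⟨y, hy.1⟩ : H)⁻¹) = 1 := by
      rw [map_mul, map_mul, map_mul, map_inv, map_inv, h, mul_inv_cancel_right, mul_inv_cancel]
    exact qmap_eq_one.1 h'

theorem Minimal.invertsSpec (hm : Minimal G) (F : Cfsg.Lib.GW.Frame G) : InvertsSpec F :=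
    fun H hH hU v hv hv2 hne x hx hxi => by
  have hxc : F.u * x * F.u⁻¹ * x ∈ Core H := by rw [hxi, inv_mul_cancel]; exact one_mem _
  rcases hm.cases F hU hH with h2 | ⟨L, D, -, -⟩
  · left
    have h := qmap_eq_one.1 (eq_one_of_two_q h2 hx.1 ((hm.mem_O F).1 hx.2).2)
    exact mul_mem ((mem_normalizer_iff.1 (le_normalizer_core H hv.1) x).1 h) h
  obtain ⟨τ, -, -, -, hτ, hinv⟩ := D.cyc _ (F.four_q hU).z2
  have hxτ := (inverted_mem_tor hm hU D hτ hx hxc).1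
  set v' : H ⧸ Cfsg.oddCore H := qmap H ⟨v, hv.1⟩ with hv'
  have hvt : v' * F.tb hU = F.tb hU * v' := by
    rw [hv', Cfsg.Lib.GW.Frame.tb, ← map_mul, ← map_mul]
    exact congrArg _ (Subtype.ext (F.mem_C.1 hv.2))
  have hvv : v * v = 1 := mul_self_of_two hv2
  have hv'2 : orderOf v' = 2 := orderOf_eq_prime (by
    rw [pow_two, hv', ← map_mul, show (⟨v, hv.1⟩ : H) * ⟨v, hv.1⟩ = 1 from Subtype.ext hvv, map_one]) fun e =>
      F.two_not_mem_core hU hv2 (qmap_eq_one.1 e)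
  have hv'ne : v' ≠ F.tb hU := fun e => by
    rw [hv', Cfsg.Lib.GW.Frame.tb, qmap_eq] at e
    have e' : v * F.t ∈ Core H := by
      have e2 : v⁻¹ * F.t ∈ Core H := e
      rwa [inv_of_two hv2] at e2
    have hsq : v * F.t * (v * F.t) = 1 := by
      rw [show v * F.t * (v * F.t) = v * (F.t * v) * F.t by group, ← F.mem_C.1 hv.2, ← mul_assoc v v, hvv, one_mul,
        F.t_sq]
    have h1 := Cfsg.Lib.GenDihedral.eq_one_of_sq_of_odd hsq
      (Cfsg.Lib.GW.Frame.odd_orderOf (Cfsg.Lib.GW.Frame.odd_card_core H) e')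
    exact hne (by rw [eq_inv_of_mul_eq_one_left h1, F.t_inv])
  rcases hinv with hinv | ⟨h3, h16⟩
  · left
    have h := hinv _ hxτ v' hv'2 hv'ne hvt
    refine (qmap_eq_one (x := ⟨v, hv.1⟩ * ⟨x, hx.1⟩ * (⟨v, hv.1⟩ : H)⁻¹ * ⟨x, hx.1⟩)).1 ?_
    rw [map_mul, map_mul, map_mul, map_inv, ← hv', h, inv_mul_cancel]
  · refine Or.inr ⟨?_, ?_⟩
    · refine (qmap_eq_one (x := (⟨x, hx.1⟩ : H) ^ 3)).1 ?_
      rw [map_pow]
      obtain ⟨i, hi⟩ := mem_zpowers_iff.1 hxτ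
      rw [← hi, ← zpow_natCast, ← zpow_mul, mul_comm, zpow_mul, zpow_natCast, ← h3, pow_orderOf_eq_one, one_zpow]
    · intro h
      refine h16 ?_
      have e := (Cfsg.oddCore H).card_eq_card_quotient_mul_card_subgroup
      rw [e] at h
      refine (Nat.Coprime.pow_left 4 (Nat.coprime_two_left.2 ?_) : Nat.Coprime (2 ^ 4) _).dvd_of_dvd_mul_right h
      rw [← card_map_of_injective (K := Cfsg.oddCore H) H.subtype_injective]
      exact Cfsg.Lib.GW.Frame.odd_card_core H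

end Cfsg.Lib.GWD
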